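import Cfsg.Agent.Lib.Characters.Burnside
import Mathlib

/-!
# Groups with few orders of elements, each order a single orbit of the automorphism group
-/

set_option autoImplicit false

namespace Cfsg.Agent.GroupStructure3.FiveOrbits

universe u

variable {G : Type u} [Group G] [Finite G]

/-- The set of element orders. -/
abbrev spec (G : Type u) [Group G] : Set ℕ := Set.range (orderOf : G → ℕ)

theorem mem_spec (g : G) : orderOf g ∈ spec G := ⟨g, rfl⟩

theorem dvd_mem_spec {n d : ℕ} (hn : n ∈ spec G) (hd : d ∣ n) : d ∈ spec G := by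
  obtain ⟨g, rfl⟩ := hn
  have h0 := (orderOf_pos g).ne'
  obtain ⟨e, he⟩ := hd
  have he0 : e ≠ 0 := fun h => h0 (by rw [he, h, mul_zero])
  refine ⟨g ^ e, ?_⟩
  rw [orderOf_pow' g he0, he, Nat.gcd_mul_left_left, Nat.mul_div_cancel _ (Nat.pos_of_ne_zero he0)]

theorem prime_mem_spec {p : ℕ} (hp : p.Prime) (hd : p ∣ Nat.card G) : p ∈ spec G :=
  haveI := Fact.mk hp
  exists_prime_orderOf_dvd_card' p hd

theorem dvd_card_of_mem_spec {n : ℕ} (hn : n ∈ spec G) : n ∣ Nat.card G := by
  obtain ⟨g, rfl⟩ := hn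
  exact orderOf_dvd_natCard g

theorem three_le_primeFactors (hns : ¬ Group.IsSolvable G) : 3 ≤ (Nat.card G).primeFactors.card := by
  set P := (Nat.card G).primeFactors with hP
  by_contra hlt
  apply hns
  have hpr := Nat.prod_factorization_pow_eq_self (n := Nat.card G) Nat.card_pos.ne'
  rw [Finsupp.prod, Nat.support_factorization, ← hP] at hpr
  have hmem : ∀ {p}, p ∈ P → p.Prime := fun h => Nat.prime_of_mem_primeFactors h
  rcases (show P.card = 0 ∨ P.card = 1 ∨ P.card = 2 by omega) with h | h | h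
  · rw [Finset.card_eq_zero.mp h, Finset.prod_empty] at hpr
    exact Characters.burnside_pa_qb (a := 0) (b := 0) Nat.prime_two Nat.prime_three (by rw [← hpr]; simp)
  · obtain ⟨p, hp⟩ := Finset.card_eq_one.mp h
    rw [hp, Finset.prod_singleton] at hpr
    exact Characters.burnside_pa_qb (a := (Nat.card G).factorization p) (b := 0)
      (hmem (hp ▸ Finset.mem_singleton_self p : p ∈ P)) Nat.prime_three (by simp [hpr])
  · obtain ⟨p, q, hpq, hp⟩ := Finset.card_eq_two.mp h
    rw [hp, Finset.prod_pair hpq] at hpr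
    exact Characters.burnside_pa_qb (hmem (show p ∈ P by rw [hp]; simp)) (hmem (show q ∈ P by rw [hp]; simp))
      hpr.symm

/-- The order of a product of commuting elements of distinct prime orders. -/
theorem mul_mem_spec_of_commute {a b : G} {p s : ℕ} (hp : p.Prime) (hs : s.Prime) (hps : p ≠ s)
    (ha : orderOf a = p) (hb : orderOf b = s) (hc : Commute a b) : p * s ∈ spec G :=
  ⟨a * b, by rw [hc.orderOf_mul_eq_mul_orderOf_of_coprime (by rw [ha, hb]; exact (Nat.coprime_primes hp hs).2 hps),
    ha, hb]⟩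

/-- In a group whose spectrum omits `p * s`, elements of these orders do not commute. -/
theorem not_commute {a b : G} {p s : ℕ} (hp : p.Prime) (hs : s.Prime) (hps : p ≠ s) (h : p * s ∉ spec G)
    (ha : orderOf a = p) (hb : orderOf b = s) : ¬ Commute a b :=
  fun hc => h (mul_mem_spec_of_commute hp hs hps ha hb hc)

/-- The spectrum `1, 2, q, r, m`, each order being one orbit of the automorphism group. -/
structure Orders (G : Type u) [Group G] (q r m : ℕ) : Prop where
  spec_eq : spec G = {1, 2, q, r, m}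
  hq : q.Prime
  hr : r.Prime
  q2 : q ≠ 2
  r2 : r ≠ 2
  qr : q ≠ r
  conj : ∀ a b : G, orderOf a = orderOf b → ∃ f : MulAut G, f a = b

namespace Orders

variable {q r m : ℕ}

theorem cases (h : Orders G q r m) (g : G) :
    orderOf g = 1 ∨ orderOf g = 2 ∨ orderOf g = q ∨ orderOf g = r ∨ orderOf g = m := by
  have := h.spec_eq ▸ mem_spec g
  simpa using this

theorem prime_cases (h : Orders G q r m) (hm : ¬ m.Prime) {p : ℕ} (hp : p.Prime) (hd : p ∣ Nat.card G) :
    p = 2 ∨ p = q ∨ p = r := by
  have := h.spec_eq ▸ prime_mem_spec hp hd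
  simp only [Set.mem_insert_iff, Set.mem_singleton_iff] at this
  rcases this with rfl | e | e | e | rfl
  · exact absurd hp Nat.not_prime_one
  · exact Or.inl e
  · exact Or.inr (Or.inl e)
  · exact Or.inr (Or.inr e)
  · exact absurd hp hm

theorem dvd_card (h : Orders G q r m) : 2 ∣ Nat.card G ∧ q ∣ Nat.card G ∧ r ∣ Nat.card G :=
  ⟨dvd_card_of_mem_spec (by rw [h.spec_eq]; simp), dvd_card_of_mem_spec (by rw [h.spec_eq]; simp),
    dvd_card_of_mem_spec (by rw [h.spec_eq]; simp)⟩

theorem symm (h : Orders G q r m) : Orders G r q m :=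
  ⟨by rw [h.spec_eq]; ext; simp; tauto, h.hr, h.hq, h.r2, h.q2, h.qr.symm, h.conj⟩

end Orders

end Cfsg.Agent.GroupStructure3.FiveOrbits
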