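import Cfsg.Agent.GroupStructure3.FiveOrbits.Basic
import Cfsg.Agent.Lib.FiveOrders.Count
import Cfsg.Agent.Lib.FiveOrders.Loc
import Cfsg.Agent.S0076

/-!
# Counting the elements of prime order
-/

set_option autoImplicit false

namespace Cfsg.Agent.GroupStructure3.FiveOrbits

open FiveOrders (conjS mem_conjS card_conjS centralizer_conj fibre_count)

universe u

variable {G : Type u} [Group G] [Finite G]

/-- The number of elements of order `n`. -/
noncomputable def numOrd (G : Type u) [Group G] (n : ℕ) : ℕ := Nat.card {g : G // orderOf g = n}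

theorem exists_conj_mem_sylow {p : ℕ} [Fact p.Prime] (S : Sylow p G) {x : G} {k : ℕ}
    (hx : orderOf x = p ^ k) : ∃ g : G, g⁻¹ * x * g ∈ (S : Subgroup G) := by
  have hp : IsPGroup p (Subgroup.zpowers x) := IsPGroup.of_card (n := k) (by rw [Nat.card_zpowers, hx])
  obtain ⟨g, hg⟩ := FiveOrders.exists_conj_le S.2 (fun Y hY hle => (S.3 hY hle).le) hp
  exact ⟨g, mem_conjS.1 (hg (Subgroup.mem_zpowers x))⟩

theorem isPGroup_centralizer {p : ℕ} [hp : Fact p.Prime] {g : G}
    (h : ∀ s : ℕ, s.Prime → s ≠ p → p * s ∉ spec G) (hg : orderOf g = p) :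
    IsPGroup p (Subgroup.centralizer ({g} : Set G)) := by
  rw [IsPGroup.iff_orderOf]
  rintro ⟨c, hc⟩
  rw [Subgroup.orderOf_mk]
  refine ⟨_, Nat.eq_prime_pow_of_unique_prime_dvd (orderOf_pos c).ne' fun {d} hd hdd => ?_⟩
  by_contra hne
  have hcg : Commute c g := Subgroup.mem_centralizer_singleton_iff.mp hc
  have ho : orderOf (c ^ (orderOf c / d)) = d := by
    rw [orderOf_pow, Nat.gcd_eq_right (Nat.div_dvd_of_dvd hdd), Nat.div_div_self hdd (orderOf_pos c).ne']
  exact h d hd hne (mul_mem_spec_of_commute hp.out hd (Ne.symm hne) hg ho (hcg.symm.pow_right _))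

theorem card_centralizer_map (f : MulAut G) (a : G) :
    Nat.card (Subgroup.centralizer ({f a} : Set G)) = Nat.card (Subgroup.centralizer ({a} : Set G)) := by
  have e : (Subgroup.centralizer ({a} : Set G)).map f.toMonoidHom = Subgroup.centralizer ({f a} : Set G) := by
    ext x
    rw [Subgroup.mem_map_equiv]
    simp only [Subgroup.mem_centralizer_singleton_iff]
    constructor
    · intro e; simpa using congrArg f e
    · intro e; simpa using congrArg f.symm e
  rw [← e, Subgroup.card_map_of_injective f.injective]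

/-- Bound for the elements of prime order `r` with a centralizer of prime power order. -/
theorem r_count {r : ℕ} [hr : Fact r.Prime] (R : Sylow r G) (hd : r ∣ Nat.card G)
    (hC : ∀ g : G, orderOf g = r → IsPGroup r (Subgroup.centralizer ({g} : Set G)))
    (hconj : ∀ a b : G, orderOf a = r → orderOf b = r → ∃ f : MulAut G, f a = b) :
    numOrd G r * Nat.card ↥(Subgroup.normalizer ((R : Subgroup G) : Set G)) + Nat.card G ≤
        Nat.card G * Nat.card ↥(Subgroup.center (R : Subgroup G)) ∧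
      (∀ g : G, orderOf g = r → ∃ k : G, Subgroup.centralizer ({g} : Set G) = conjS k (R : Subgroup G)) := by
  haveI : Nontrivial (R : Subgroup G) := by
    rw [← Finite.one_lt_card_iff_nontrivial]
    exact lt_of_lt_of_le hr.out.one_lt (Nat.le_of_dvd Nat.card_pos (R.dvd_card_of_dvd_card hd))
  haveI := R.2.center_nontrivial
  obtain ⟨j, hj, hjc⟩ := (R.2.to_subgroup (Subgroup.center (R : Subgroup G))).nontrivial_iff_card.1 inferInstance
  obtain ⟨z, hz⟩ := exists_prime_orderOf_dvd_card' (G := Subgroup.center (R : Subgroup G)) r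
    (hjc ▸ dvd_pow_self r hj.ne')
  have hzo : orderOf ((z : (R : Subgroup G)) : G) = r := by rw [Subgroup.orderOf_coe, Subgroup.orderOf_coe, hz]
  have hRz : (R : Subgroup G) ≤ Subgroup.centralizer ({((z : (R : Subgroup G)) : G)} : Set G) := fun x hx =>
    Subgroup.mem_centralizer_singleton_iff.2 (congrArg Subtype.val (Subgroup.mem_center_iff.1 z.2 ⟨x, hx⟩) :)
  have hCz : Subgroup.centralizer ({((z : (R : Subgroup G)) : G)} : Set G) = R := R.3 (hC _ hzo) hRz
  have hsur : ∀ g : G, orderOf g = r → ∃ k : G, Subgroup.centralizer ({g} : Set G) = conjS k (R : Subgroup G) := by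
    intro g hg
    obtain ⟨f, hf⟩ := hconj _ g hzo hg
    have hcard : Nat.card (Subgroup.centralizer ({g} : Set G)) = Nat.card R := by
      rw [← hf, card_centralizer_map, hCz]
    obtain ⟨k, hk⟩ := FiveOrders.exists_conj_le R.2 (fun Y hY hle => (R.3 hY hle).le) (hC g hg)
    exact ⟨k, Subgroup.eq_of_le_of_card_ge hk (by rw [card_conjS, hcard])⟩
  refine ⟨?_, hsur⟩
  have key := fibre_count (A := {g : G | orderOf g = r}) (fun g => Subgroup.centralizer ({g} : Set G))
    (R : Subgroup G) (fun g a ha => by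
      simp only [Set.mem_setOf_eq] at ha ⊢
      rw [← ha]; exact MulEquiv.orderOf_eq (MulAut.conj g) a)
    (fun g a _ => centralizer_conj g a) hsur
  rw [show numOrd G r = Nat.card {g : G | orderOf g = r} from rfl, key, ← Nat.mul_succ]
  refine Nat.mul_le_mul_left _ ?_
  refine Nat.succ_le_of_lt ?_
  set Z := Subgroup.center (R : Subgroup G)
  set F := {a : G | a ∈ {g : G | orderOf g = r} ∧ Subgroup.centralizer ({a} : Set G) = R} with hF
  have hmem : ∀ a : F, (a : G) ∈ (R : Subgroup G) := fun a =>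
    a.2.2.le (Subgroup.mem_centralizer_singleton_iff.2 rfl)
  let i : F → Z := fun a => ⟨⟨a, hmem a⟩, Subgroup.mem_center_iff.2 fun x => Subtype.ext
    (Subgroup.mem_centralizer_singleton_iff.1 (a.2.2.ge x.2))⟩
  refine lt_of_le_of_ne (Nat.card_le_card_of_injective i fun a b e => Subtype.ext
    (congrArg (fun y : Z => ((y : (R : Subgroup G)) : G)) e)) fun e => ?_
  have hbij := (Nat.bijective_iff_injective_and_card i).2 ⟨fun a b e' => Subtype.ext
    (congrArg (fun y : Z => ((y : (R : Subgroup G)) : G)) e'), e⟩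
  obtain ⟨a, ha⟩ := hbij.2 1
  have ha1 : (a : G) = 1 := congrArg (fun y : Z => ((y : (R : Subgroup G)) : G)) ha
  have := a.2.1
  simp only [Set.mem_setOf_eq, ha1, orderOf_one] at this
  exact hr.out.ne_one this.symm

/-- Fusion of elements of an abelian Sylow subgroup. -/
theorem fusion {p : ℕ} [Fact p.Prime] (S : Sylow p G) (hS : ∀ a ∈ (S : Subgroup G), ∀ b ∈ (S : Subgroup G), a * b = b * a)
    {s g : G} (hs : s ∈ (S : Subgroup G)) (hg : g⁻¹ * s * g ∈ (S : Subgroup G)) :
    ∃ m ∈ Subgroup.normalizer ((S : Subgroup G) : Set G), m * s * m⁻¹ = g⁻¹ * s * g := by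
  have hinv : ∀ y ∈ (S : Subgroup G), ∀ x ∈ (S : Subgroup G), (fun y => x * y * x⁻¹) '' {y} = {y} := by
    intro y hy x hx
    rw [Set.image_singleton, hS x hx y hy, mul_inv_cancel_right]
  obtain ⟨m, hm, he⟩ := S0076.result S {s} {g⁻¹ * s * g} (Set.singleton_subset_iff.2 hs) (Set.singleton_subset_iff.2 hg)
    (hinv s hs) (hinv _ hg) g⁻¹ (by rw [Set.image_singleton, inv_inv])
  rw [Set.image_singleton, Set.singleton_eq_singleton_iff] at he
  exact ⟨m, hm, he⟩

/-- The number of involutions for an elementary abelian Sylow 2-subgroup with constant centralizer orders. -/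
theorem inv_count [Fact (Nat.Prime 2)] (S : Sylow 2 G) (hsq : ∀ a ∈ (S : Subgroup G), a * a = 1) (C d : ℕ)
    (hC : ∀ s ∈ (S : Subgroup G), s ≠ 1 → Nat.card (Subgroup.centralizer ({s} : Set G)) = C)
    (hd : ∀ s ∈ (S : Subgroup G), s ≠ 1 →
      Nat.card ↥(Subgroup.centralizer ({s} : Set G) ⊓ Subgroup.normalizer ((S : Subgroup G) : Set G)) = d) :
    numOrd G 2 * (C * Nat.card ↥(Subgroup.normalizer ((S : Subgroup G) : Set G))) =
      Nat.card G * (Nat.card S - 1) * d := by
  classical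
  set M := Subgroup.normalizer ((S : Subgroup G) : Set G) with hM
  have hcomm : ∀ a ∈ (S : Subgroup G), ∀ b ∈ (S : Subgroup G), a * b = b * a := fun a ha b hb =>
    (FiveOrders.commute_of_sq hsq ha hb).eq
  let S1 := {s : G // s ∈ (S : Subgroup G) ∧ s ≠ 1}
  have hS1 : Nat.card S1 = Nat.card S - 1 := by
    have := Set.ncard_sdiff_singleton_add_one
      (show (1 : G) ∈ ((S : Subgroup G) : Set G) from one_mem _) (Set.toFinite _)
    rw [show ((S : Subgroup G) : Set G).ncard = Nat.card S from (Nat.card_coe_set_eq _).symm] at this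
    have e : Nat.card S1 = (((S : Subgroup G) : Set G) \ {1}).ncard := Nat.card_coe_set_eq _
    omega
  let F := fun t : G => {g : G // g⁻¹ * t * g ∈ (S : Subgroup G)}
  have e1 : (Σ t : {g : G // orderOf g = 2}, F t.1) ≃ G × S1 :=
    { toFun := fun x => (x.2.1, ⟨x.2.1⁻¹ * x.1.1 * x.2.1, x.2.2, fun e => by
        have : x.1.1 = 1 := by
          have h := congrArg (fun y => x.2.1 * y * x.2.1⁻¹) e
          simpa [mul_assoc] using h
        have h2 := x.1.2
        rw [this, orderOf_one] at h2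
        omega⟩)
      invFun := fun x => ⟨⟨x.1 * x.2.1 * x.1⁻¹, orderOf_eq_prime
        (by rw [pow_two]; exact FiveOrders.conj_sq (hsq _ x.2.2.1)) fun e => x.2.2.2 (conj_eq_one_iff.1 e)⟩,
        ⟨x.1, by
          show x.1⁻¹ * (x.1 * x.2.1 * x.1⁻¹) * x.1 ∈ (S : Subgroup G)
          simpa [mul_assoc] using x.2.2.1⟩⟩
      left_inv := fun x => Sigma.subtype_ext (Subtype.ext (by simp [mul_assoc])) rfl
      right_inv := fun x => Prod.ext rfl (Subtype.ext (by simp [mul_assoc])) }
  have hfib : ∀ t : {g : G // orderOf g = 2}, Nat.card (F t.1) * d = C * Nat.card M := by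
    rintro ⟨t, ht⟩
    obtain ⟨g₀, hg₀⟩ := exists_conj_mem_sylow S (x := t) (k := 1) (by rw [ht, pow_one])
    set s := g₀⁻¹ * t * g₀ with hs
    have hs1 : s ≠ 1 := fun e => by
      have : t = 1 := by
        have h := congrArg (fun y => g₀ * y * g₀⁻¹) e
        simpa [hs, mul_assoc] using h
      rw [this, orderOf_one] at ht; omega
    have e2 : F t ≃ F s :=
      { toFun := fun g => ⟨g₀⁻¹ * g.1, by
          show (g₀⁻¹ * g.1)⁻¹ * s * (g₀⁻¹ * g.1) ∈ (S : Subgroup G)
          simpa [hs, mul_assoc] using g.2⟩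
        invFun := fun g => ⟨g₀ * g.1, by
          show (g₀ * g.1)⁻¹ * t * (g₀ * g.1) ∈ (S : Subgroup G)
          simpa [hs, mul_assoc] using g.2⟩
        left_inv := fun g => Subtype.ext (mul_inv_cancel_left _ _)
        right_inv := fun g => Subtype.ext (inv_mul_cancel_left _ _) }
    show Nat.card (F t) * d = _
    rw [Nat.card_congr e2, ← hC s hg₀ hs1, ← hd s hg₀ hs1, ← Nat.card_prod, ← Nat.card_prod]
    set Cs := Subgroup.centralizer ({s} : Set G)
    have hsec : ∀ g : F s, ∃ c : Cs, (c : G)⁻¹ * g.1 ∈ M := by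
      rintro ⟨g, hg⟩
      obtain ⟨m, hm, he⟩ := fusion S hcomm hg₀ hg
      refine ⟨⟨g * m, Subgroup.mem_centralizer_singleton_iff.2 ?_⟩, ?_⟩
      · calc g * m * s = g * (m * s * m⁻¹) * m := by group
          _ = s * (g * m) := by rw [he]; group
      · show (g * m)⁻¹ * g ∈ M
        simpa [mul_assoc] using M.inv_mem hm
    choose γ hγ using hsec
    have hF : ∀ (c : Cs) (m : M), ((c : G) * m)⁻¹ * s * ((c : G) * m) ∈ (S : Subgroup G) := by
      intro c m
      have hc : s * (c : G) = c * s := (Subgroup.mem_centralizer_singleton_iff.1 c.2).symm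
      have e : ((c : G) * m)⁻¹ * s * ((c : G) * m) = (m : G)⁻¹ * s * m := by
        rw [mul_inv_rev]
        calc (m : G)⁻¹ * (c : G)⁻¹ * s * ((c : G) * m) = (m : G)⁻¹ * (c : G)⁻¹ * (s * c) * m := by group
          _ = _ := by rw [hc]; group
      rw [e]
      have := (Subgroup.mem_normalizer_iff.1 (M.inv_mem m.2) s).1 hg₀
      simpa using this
    let ψ : Cs × M → F s × ↥(Cs ⊓ M) := fun x =>
      (⟨(x.1 : G) * x.2, hF x.1 x.2⟩, ⟨(γ ⟨(x.1 : G) * x.2, hF x.1 x.2⟩ : G)⁻¹ * x.1,
        Cs.mul_mem (Cs.inv_mem (γ _).2) x.1.2, by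
          have h1 := hγ ⟨(x.1 : G) * x.2, hF x.1 x.2⟩
          have h2 := M.mul_mem h1 (M.inv_mem x.2.2)
          simpa [mul_assoc] using h2⟩)
    refine (Nat.card_congr (Equiv.ofBijective ψ ⟨?_, ?_⟩)).symm
    · rintro ⟨c, m⟩ ⟨c', m'⟩ e
      have e1 : (c : G) * m = c' * m' := congrArg (fun y : F s × ↥(Cs ⊓ M) => (y.1 : G)) e
      have e3 : (γ ⟨(c : G) * m, hF c m⟩ : G)⁻¹ * c = (γ ⟨(c' : G) * m', hF c' m'⟩ : G)⁻¹ * c' :=
        congrArg (fun y : F s × ↥(Cs ⊓ M) => (y.2 : G)) e
      rw [show (⟨(c : G) * m, hF c m⟩ : F s) = ⟨(c' : G) * m', hF c' m'⟩ from Subtype.ext e1] at e3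
      have e4 : (c : G) = c' := mul_left_cancel e3
      exact Prod.ext (Subtype.ext e4) (Subtype.ext (mul_left_cancel (e4 ▸ e1)))
    · rintro ⟨g, x⟩
      have hx : (x : G) ∈ Cs ∧ (x : G) ∈ M := x.2
      refine ⟨(γ g * ⟨x, hx.1⟩, ⟨(x : G)⁻¹ * ((γ g : G)⁻¹ * g), M.mul_mem (M.inv_mem hx.2) (hγ g)⟩), ?_⟩
      have e : (γ g : G) * (x : G) * ((x : G)⁻¹ * ((γ g : G)⁻¹ * g)) = g := by group
      refine Prod.ext (Subtype.ext e) (Subtype.ext ?_)
      show (γ _ : G)⁻¹ * ((γ g : G) * x) = x
      have e5 : ∀ g' : F s, g' = g → (γ g' : G)⁻¹ * ((γ g : G) * x) = x := fun g' h => by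
        subst h; exact inv_mul_cancel_left _ _
      exact e5 _ (Subtype.ext e)
  haveI : Fintype {g : G // orderOf g = 2} := Fintype.ofFinite _
  calc numOrd G 2 * (C * Nat.card M) = ∑ t : {g : G // orderOf g = 2}, Nat.card (F t.1) * d := by
        rw [Finset.sum_congr rfl (fun t _ => hfib t), Finset.sum_const, smul_eq_mul, Finset.card_univ,
          numOrd, Nat.card_eq_fintype_card (α := {g : G // orderOf g = 2})]
    _ = Nat.card G * (Nat.card S - 1) * d := by
        rw [← Finset.sum_mul, ← Nat.card_sigma, Nat.card_congr e1, Nat.card_prod, hS1]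

end Cfsg.Agent.GroupStructure3.FiveOrbits
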