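import Cfsg.Agent.GroupStructure3.FiveOrbits.PSL
import Cfsg.Agent.Lib.Classical.SmallIso

/-!
# Reduction to the spectra `{1, 2, q, r, 4}` and `{1, 2, q, r, 2q}`
-/

set_option autoImplicit false

namespace Cfsg.Agent.GroupStructure3.FiveOrbits

universe u

variable {G : Type u} [Group G] [Finite G]

theorem spec_eq_range_out :
    spec G = Set.range (fun o : MulAction.orbitRel.Quotient (MulAut G) G => orderOf o.out) := by
  ext n
  constructor
  · rintro ⟨g, rfl⟩
    obtain ⟨a, ha⟩ := Quotient.exact (Quotient.out_eq (Quotient.mk'' g : MulAction.orbitRel.Quotient (MulAut G) G))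
    refine ⟨Quotient.mk'' g, ?_⟩
    show orderOf _ = orderOf g
    rw [← ha]
    exact MulEquiv.orderOf_eq a g
  · rintro ⟨o, rfl⟩
    exact ⟨o.out, rfl⟩

theorem ncard_spec_le {k : ℕ} (h5 : Nat.card (MulAction.orbitRel.Quotient (MulAut G) G) ≤ k) :
    (spec G).ncard ≤ k := by
  rw [spec_eq_range_out, ← Nat.card_coe_set_eq]
  exact (Finite.card_range_le _).trans h5

/-- When the number of orders attains the number of orbits, elements of equal order are conjugate. -/
theorem conj_of_ncard {k : ℕ} (h5 : Nat.card (MulAction.orbitRel.Quotient (MulAut G) G) ≤ k)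
    (hk : k ≤ (spec G).ncard) (a b : G) (hab : orderOf a = orderOf b) : ∃ f : MulAut G, f a = b := by
  set φ := fun o : MulAction.orbitRel.Quotient (MulAut G) G => orderOf o.out with hφ
  have hs : Function.Surjective (Set.rangeFactorization φ) := Set.rangeFactorization_surjective
  have hbij : Function.Bijective (Set.rangeFactorization φ) := by
    refine (Nat.bijective_iff_surjective_and_card _).2 ⟨hs, le_antisymm ?_ (Finite.card_range_le _)⟩
    rw [Nat.card_coe_set_eq, hφ, ← spec_eq_range_out]
    exact h5.trans hk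
  have key : ∀ g : G, φ (Quotient.mk'' g) = orderOf g := fun g => by
    obtain ⟨f, hf⟩ := Quotient.exact (Quotient.out_eq (Quotient.mk'' g : MulAction.orbitRel.Quotient (MulAut G) G))
    show orderOf _ = orderOf g
    rw [← hf]
    exact MulEquiv.orderOf_eq f g
  have e : (Quotient.mk'' b : MulAction.orbitRel.Quotient (MulAut G) G) = Quotient.mk'' a :=
    hbij.1 (Subtype.ext (by simpa [Set.rangeFactorization, key] using hab.symm))
  obtain ⟨f, hf⟩ := Quotient.exact e
  exact ⟨f, hf⟩

/-- The conclusion of the theorem. -/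
def Concl (G : Type u) [Group G] : Prop :=
  Nonempty (G ≃* ↥(alternatingGroup (Fin 5))) ∨ Nonempty (G ≃* ↥(alternatingGroup (Fin 6))) ∨
    (∃ (F : Type) (_ : Field F) (_ : Fintype F), (Fintype.card F = 7 ∨ Fintype.card F = 8) ∧
      Nonempty (G ≃* Matrix.ProjectiveSpecialLinearGroup (Fin 2) F))

variable [IsSimpleGroup G]

theorem not_solvable (hG : ¬ IsMulCommutative G) : ¬ Group.IsSolvable G := fun h =>
  hG ⟨⟨IsSimpleGroup.comm_iff_isSolvable.2 h⟩⟩

theorem concl_of_elementary (hG : ¬ IsMulCommutative G)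
    (h : ∀ s : ℕ, s.Prime → s ≠ 2 → 2 * s ∉ spec G) (h4 : 4 ∉ spec G) (h5 : (spec G).ncard ≤ 5) : Concl G := by
  classical
  haveI : Fact (Nat.Prime 2) := ⟨Nat.prime_two⟩
  set X := ((Set.toFinite (spec G)).toFinset.erase 1).erase 2 with hX
  have hcard : X.card ≤ 3 := by
    have h2 : 2 ∈ spec G := by
      obtain ⟨E, hE⟩ := S0204.result (G := G) (fun hc => hG inferInstance)
      exact prime_mem_spec Nat.prime_two ((show 2 ∣ Nat.card E by rw [hE.card_four]; norm_num).trans
        (Subgroup.card_subgroup_dvd_card E))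
    have h1 : 1 ∈ spec G := ⟨1, orderOf_one⟩
    rw [hX, Finset.card_erase_of_mem, Finset.card_erase_of_mem,
      ← Set.ncard_eq_toFinset_card (spec G) (Set.toFinite _)]
    · omega
    · simpa using h1
    · simp only [Finset.mem_erase, Set.Finite.mem_toFinset]; exact ⟨by norm_num, h2⟩
  refine Or.imp id (fun ⟨F, iF, iK, hF, he⟩ => Or.inr ⟨F, iF, iK, Or.inr hF, he⟩)
    (elementary_case hG (fun t c ht hc hc1 => ?_) X hcard (fun g hg => ?_))
  · by_contra hne
    obtain ⟨s, hs, hsd⟩ := Nat.exists_prime_and_dvd (n := orderOf c) (by rwa [ne_eq, orderOf_eq_one_iff])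
    obtain ⟨j, hj⟩ : s ∈ spec G := dvd_mem_spec (mem_spec c) hsd
    by_cases hs2 : s = 2
    · subst hs2
      by_cases hp : ∃ u, u.Prime ∧ u ≠ 2 ∧ u ∣ orderOf c
      · obtain ⟨u, hu, hu2, hud⟩ := hp
        exact h u hu hu2 (dvd_mem_spec (mem_spec c)
          (((Nat.coprime_primes Nat.prime_two hu).2 hu2.symm).mul_dvd_of_dvd_of_dvd hsd hud))
      · have hpow := Nat.eq_prime_pow_of_unique_prime_dvd (orderOf_pos c).ne'
          (p := 2) (fun {d} hd hdd => by_contra fun hd2 => hp ⟨d, hd, hd2, hdd⟩)
        obtain ⟨k, hk⟩ : ∃ k, orderOf c = 2 ^ k := ⟨_, hpow⟩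
        have hk2 : 2 ≤ k := by
          rcases k with _ | _ | k
          · simp at hk; exact absurd hk hc1
          · simp at hk; exact absurd hk hne
          · omega
        exact h4 (dvd_mem_spec (mem_spec c) (hk ▸ (pow_dvd_pow 2 hk2)))
    · have hc0 : (orderOf c).gcd (orderOf c / s) = orderOf c / s := Nat.gcd_eq_right (Nat.div_dvd_of_dvd hsd)
      have ho : orderOf (c ^ (orderOf c / s)) = s := by
        rw [orderOf_pow, hc0, Nat.div_div_self hsd (orderOf_pos c).ne']
      exact h s hs hs2 (mul_mem_spec_of_commute Nat.prime_two hs (Ne.symm hs2) ht ho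
        (hc.symm.pow_right _))
  · by_cases hg2 : orderOf g = 2
    · exact Or.inl hg2
    · refine Or.inr ?_
      simp only [hX, Finset.mem_erase, Set.Finite.mem_toFinset]
      exact ⟨hg2, by rwa [ne_eq, orderOf_eq_one_iff], mem_spec g⟩

/-- The reduction. -/
theorem concl_of_cases (hG : ¬ IsMulCommutative G)
    (four : ∀ q r : ℕ, Orders G q r 4 → Concl G) (twoq : ∀ q r : ℕ, Orders G q r (2 * q) → False)
    (h5 : Nat.card (MulAction.orbitRel.Quotient (MulAut G) G) ≤ 5) : Concl G := by
  classical
  have hs5 := ncard_spec_le h5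
  by_cases hall : ∀ s : ℕ, s.Prime → s ≠ 2 → 2 * s ∉ spec G
  · by_cases h4 : 4 ∈ spec G
    · obtain ⟨q, r, h⟩ := exists_orders hG h5 h4 (by norm_num)
      exact four q r h
    · exact concl_of_elementary hG hall h4 hs5
  · push Not at hall
    obtain ⟨s, hs, hs2, hmem⟩ := hall
    obtain ⟨q, r, h⟩ := exists_orders hG h5 hmem (Nat.not_prime_mul (by norm_num) hs.ne_one)
    have : s = q ∨ s = r := by
      rcases h.prime_cases (Nat.not_prime_mul (by norm_num) hs.ne_one) hs
        (dvd_card_of_mem_spec (dvd_mem_spec hmem (dvd_mul_left s 2))) with e | e | e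
      exacts [absurd e hs2, Or.inl e, Or.inr e]
    rcases this with rfl | rfl
    · exact (twoq _ _ h).elim
    · exact (twoq _ _ h.symm).elim
where
  exists_orders (hG : ¬ IsMulCommutative G) (h5 : Nat.card (MulAction.orbitRel.Quotient (MulAut G) G) ≤ 5)
      {m : ℕ} (hm : m ∈ spec G) (hmp : ¬ m.Prime) (hm1 : m ≠ 1 := by first | omega | (intro e; simp_all)) :
      ∃ q r, Orders G q r m := by
    classical
    set P := (Nat.card G).primeFactors with hP
    have hP3 : 3 ≤ P.card := three_le_primeFactors (not_solvable hG)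
    have h2 : 2 ∈ P := by
      obtain ⟨E, hE⟩ := S0204.result (G := G) (fun hc => hG inferInstance)
      exact Nat.mem_primeFactors.2 ⟨Nat.prime_two, (show 2 ∣ Nat.card E by rw [hE.card_four]; norm_num).trans
        (Subgroup.card_subgroup_dvd_card E), Nat.card_pos.ne'⟩
    have h1P : (1 : ℕ) ∉ P := fun h => Nat.not_prime_one (Nat.prime_of_mem_primeFactors h)
    have hmP : m ∉ P := fun h => hmp (Nat.prime_of_mem_primeFactors h)
    have hsub : (↑(insert 1 (insert m P)) : Set ℕ) ⊆ spec G := by
      intro x hx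
      simp only [Finset.mem_coe, Finset.mem_insert] at hx
      rcases hx with rfl | rfl | hx
      · exact ⟨1, orderOf_one⟩
      · exact hm
      · exact prime_mem_spec (Nat.prime_of_mem_primeFactors hx) (Nat.dvd_of_mem_primeFactors hx)
    have hc : (insert 1 (insert m P)).card = P.card + 2 := by
      rw [Finset.card_insert_of_notMem, Finset.card_insert_of_notMem hmP]
      simp only [Finset.mem_insert, not_or]
      exact ⟨Ne.symm hm1, h1P⟩
    have hle := (Set.ncard_le_ncard hsub (Set.toFinite _)).trans (ncard_spec_le h5)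
    rw [Set.ncard_coe_finset, hc] at hle
    have heq : (↑(insert 1 (insert m P)) : Set ℕ) = spec G := Set.eq_of_subset_of_ncard_le hsub
      ((ncard_spec_le h5).trans (by rw [Set.ncard_coe_finset, hc]; omega)) (Set.toFinite _)
    obtain ⟨q, r, hqr, hPe⟩ := Finset.card_eq_two.1 (show (P.erase 2).card = 2 by
      rw [Finset.card_erase_of_mem h2]; omega)
    have hqP : q ∈ P.erase 2 := by rw [hPe]; simp
    have hrP : r ∈ P.erase 2 := by rw [hPe]; simp
    rw [Finset.mem_erase] at hqP hrP
    refine ⟨q, r, ?_, Nat.prime_of_mem_primeFactors hqP.2, Nat.prime_of_mem_primeFactors hrP.2, hqP.1, hrP.1,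
      hqr, conj_of_ncard h5 ?_⟩
    · rw [← heq, ← Finset.insert_erase h2, hPe]
      ext x
      simp only [Finset.mem_coe, Finset.mem_insert, Finset.mem_singleton, Set.mem_insert_iff, Set.mem_singleton_iff]
      tauto
    · rw [← heq, Set.ncard_coe_finset, hc]; omega

end Cfsg.Agent.GroupStructure3.FiveOrbits
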