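import Cfsg.Agent.GroupStructure3.FiveOrbits.Four.NonTI
import Cfsg.Agent.GroupStructure3.FiveOrbits.Four.TIMain

/-!
# The spectrum `{1, 2, q, r, 4}`
-/

set_option autoImplicit false

namespace Cfsg.Agent.GroupStructure3.FiveOrbits

universe u

theorem four_concl {G : Type u} [Group G] [Finite G] [IsSimpleGroup G] (hG : ¬ IsMulCommutative G) {q r : ℕ}
    (h : Orders G q r 4) : Concl G := by
  haveI : Fact (Nat.Prime 2) := ⟨Nat.prime_two⟩
  by_cases hti : Four.TI G
  · exact (Four.ti_false hG h hti).elim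
  · simp only [Four.TI, not_forall] at hti
    obtain ⟨P, Q, x, hP, hQ, hx, hne⟩ := hti
    exact Four.non_ti hG h ⟨P, Q, hne, fun e => hx (Subgroup.mem_bot.1 (e ▸ ⟨hP, hQ⟩))⟩

end Cfsg.Agent.GroupStructure3.FiveOrbits
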