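import Cfsg.Agent.GroupStructure3.FiveOrbits.Basic
import Cfsg.Agent.Lib.Involutions.ElementaryCentralizersPSL
import Cfsg.Agent.Lib.Classical.SmallIso
import Cfsg.Agent.Lib.Classical.GL2
import Cfsg.Agent.Lib.Classical.Torus
import Cfsg.Agent.S0204
import Cfsg.Agent.S1230

/-!
# The case of elementary abelian centralizers of involutions
-/

set_option autoImplicit false

namespace Cfsg.Agent.GroupStructure3.FiveOrbits

open scoped MatrixGroups

universe u

theorem prime_or_sq {N : ℕ} (hN : 1 < N) (h : (N.divisors.erase 1).card ≤ 2) :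
    ∃ p, p.Prime ∧ (N = p ∨ N = p ^ 2) := by
  refine ⟨N.minFac, Nat.minFac_prime hN.ne', ?_⟩
  by_contra hno
  push Not at hno
  have hp := Nat.minFac_prime hN.ne'
  obtain ⟨k, hk⟩ := Nat.minFac_dvd N
  have hk1 : k ≠ 1 := fun e => hno.1 (by rw [e, mul_one] at hk; exact hk)
  have hkp : k ≠ N.minFac := fun e => hno.2 (by rw [pow_two]; exact hk.trans (by rw [e]))
  have hkN : k ≠ N := fun e => by
    rw [e] at hk
    have : N.minFac = 1 := by nlinarith [hp.two_le, hk]
    exact hp.one_lt.ne' this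
  have hsub : ({N.minFac, k, N} : Finset ℕ) ⊆ N.divisors.erase 1 := by
    intro x hx
    simp only [Finset.mem_insert, Finset.mem_singleton] at hx
    simp only [Finset.mem_erase, Nat.mem_divisors]
    rcases hx with rfl | rfl | rfl
    · exact ⟨hp.one_lt.ne', Nat.minFac_dvd N, by omega⟩
    · exact ⟨hk1, Dvd.intro_left _ hk.symm, by omega⟩
    · exact ⟨hN.ne', dvd_rfl, by omega⟩
  have hc : ({N.minFac, k, N} : Finset ℕ).card = 3 :=
    Finset.card_eq_three.2 ⟨_, _, _, hkp.symm, fun e => hno.1 e.symm, hkN, rfl⟩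
  have := Finset.card_le_card hsub
  omega

theorem eq_three_or_nine {N : ℕ} (hN : 1 < N) (h3 : 3 ∣ N) (h : (N.divisors.erase 1).card ≤ 2) :
    N = 3 ∨ N = 9 := by
  obtain ⟨p, hp, rfl | rfl⟩ := prime_or_sq hN h
  · exact Or.inl ((Nat.prime_dvd_prime_iff_eq Nat.prime_three hp).1 h3).symm
  · right
    have := (Nat.prime_dvd_prime_iff_eq Nat.prime_three hp).1 (Nat.prime_three.dvd_of_dvd_pow h3)
    subst this; rfl

/-- A power of two `≥ 4` such that `q - 1` and `q + 1` together have at most three non-trivial divisors. -/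
theorem eq_four_or_eight {n : ℕ} (hn : 2 ≤ n) (X : Finset ℕ) (hX : X.card ≤ 3)
    (hd : ∀ d, 1 < d → (d ∣ 2 ^ n - 1 ∨ d ∣ 2 ^ n + 1) → d ∈ X) : 2 ^ n = 4 ∨ 2 ^ n = 8 := by
  have h4 : 4 ≤ 2 ^ n := le_trans (by norm_num) (Nat.pow_le_pow_right two_pos hn)
  have heven : 2 ∣ 2 ^ n := dvd_pow_self 2 (by omega)
  set A := (2 ^ n - 1).divisors.erase 1 with hA
  set B := (2 ^ n + 1).divisors.erase 1 with hB
  have hdisj : Disjoint A B := by
    rw [Finset.disjoint_left]
    intro d h1 h2
    simp only [hA, hB, Finset.mem_erase, Nat.mem_divisors] at h1 h2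
    have h5 := Nat.dvd_sub h2.2.1 h1.2.1
    rw [show 2 ^ n + 1 - (2 ^ n - 1) = 2 by omega] at h5
    rcases (Nat.dvd_prime Nat.prime_two).1 h5 with rfl | rfl
    · exact h1.1 rfl
    · obtain ⟨k, hk⟩ := h1.2.1
      omega
  have hmem : ∀ {N d : ℕ}, d ∈ N.divisors.erase 1 → 1 < d ∧ d ∣ N := by
    intro N d h
    simp only [Finset.mem_erase, Nat.mem_divisors] at h
    exact ⟨lt_of_le_of_ne (Nat.pos_of_dvd_of_pos h.2.1 (Nat.pos_of_ne_zero h.2.2)) (Ne.symm h.1), h.2.1⟩
  have hsub : A ∪ B ⊆ X := Finset.union_subset (fun d h => hd d (hmem h).1 (Or.inl (hmem h).2))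
    (fun d h => hd d (hmem h).1 (Or.inr (hmem h).2))
  have hc := Finset.card_le_card hsub
  rw [Finset.card_union_of_disjoint hdisj] at hc
  have hA1 : 1 ≤ A.card := Finset.card_pos.2 ⟨2 ^ n - 1, by
    simp only [hA, Finset.mem_erase, Nat.mem_divisors, dvd_refl, true_and]; omega⟩
  have hB1 : 1 ≤ B.card := Finset.card_pos.2 ⟨2 ^ n + 1, by
    simp only [hB, Finset.mem_erase, Nat.mem_divisors, dvd_refl, true_and]; omega⟩
  have h3 : 3 ∣ 2 ^ n - 1 ∨ 3 ∣ 2 ^ n + 1 := by
    have := Nat.pow_mod 2 n 3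
    have hne : 2 ^ n % 3 ≠ 0 := fun h => by
      have := (Nat.prime_dvd_prime_iff_eq Nat.prime_three Nat.prime_two).1
        (Nat.prime_three.dvd_of_dvd_pow (Nat.dvd_of_mod_eq_zero h))
      omega
    clear this
    revert hne h4
    generalize 2 ^ n = M
    intro h4 hne
    rcases (show M % 3 = 1 ∨ M % 3 = 2 by omega) with e | e
    · exact Or.inl (Nat.dvd_of_mod_eq_zero (by omega))
    · exact Or.inr (Nat.dvd_of_mod_eq_zero (by omega))
  have hpow : 2 ^ n ≠ 10 := fun h => by
    have : (5 : ℕ) ∣ 2 ^ n := by rw [h]; norm_num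
    have := (Nat.prime_dvd_prime_iff_eq (by norm_num) Nat.prime_two).1
      ((show Nat.Prime 5 by norm_num).dvd_of_dvd_pow this)
    omega
  rcases h3 with h | h
  · rcases eq_three_or_nine (by omega) h (by rw [← hA]; omega) with e | e <;> omega
  · rcases eq_three_or_nine (by omega) h (by rw [← hB]; omega) with e | e <;> omega

/-- Simple groups with elementary abelian centralizers of involutions and at most three other orders. -/
theorem elementary_case {G : Type u} [Group G] [Finite G] [IsSimpleGroup G] (hG : ¬ IsMulCommutative G)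
    (h : ∀ t c : G, orderOf t = 2 → Commute c t → c ≠ 1 → orderOf c = 2)
    (X : Finset ℕ) (hX : X.card ≤ 3) (hsub : ∀ g : G, g ≠ 1 → orderOf g = 2 ∨ orderOf g ∈ X) :
    Nonempty (G ≃* ↥(alternatingGroup (Fin 5))) ∨
      ∃ (F : Type) (_ : Field F) (_ : Fintype F), Fintype.card F = 8 ∧
        Nonempty (G ≃* Matrix.ProjectiveSpecialLinearGroup (Fin 2) F) := by
  classical
  haveI : Fact (Nat.Prime 2) := ⟨Nat.prime_two⟩
  have hncyc : ¬ IsCyclic G := fun hc => hG inferInstance
  obtain ⟨E, hE⟩ := S0204.result hncyc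
  have hE2 : IsPGroup 2 E := IsPGroup.of_card (n := 2) hE.card_four
  obtain ⟨T, hET⟩ := hE2.exists_le_sylow
  have h4T : 4 ≤ Nat.card T := hE.card_four ▸ Subgroup.card_le_of_le hET
  have hH : Involutions.ElementaryCentralizers.Hyp T := by
    refine ⟨fun hcyc => ?_, fun hn => ?_, fun t ht => ?_⟩
    · haveI := hE
      haveI := hcyc
      exact IsKleinFour.not_isCyclic (Subgroup.isCyclic_of_le hET : IsCyclic E)
    · rcases IsSimpleGroup.eq_bot_or_eq_top_of_normal _ hn with e | e
      · rw [e, Subgroup.card_bot] at h4T; omega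
      · obtain ⟨g, hg⟩ : ∃ g : G, True := ⟨1, trivial⟩
        haveI := T.2.isNilpotent
        have hsol : Group.IsSolvable (T : Subgroup G) := inferInstance
        rw [e] at hsol
        haveI : Group.IsSolvable G := Group.isSolvable_of_surjective (f := (⊤ : Subgroup G).subtype)
          fun x => ⟨⟨x, Subgroup.mem_top x⟩, rfl⟩
        exact hG ⟨⟨IsSimpleGroup.comm_iff_isSolvable.2 inferInstance⟩⟩
    · have hsq : ∀ c ∈ Subgroup.centralizer ({t} : Set G), c ^ 2 = 1 := by
        intro c hc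
        by_cases hc1 : c = 1
        · rw [hc1, one_pow]
        · rw [← h t c ht (Subgroup.mem_centralizer_singleton_iff.mp hc) hc1, pow_orderOf_eq_one]
      refine ⟨⟨⟨fun a b => ?_⟩⟩, hsq⟩
      have hi : ∀ z : Subgroup.centralizer ({t} : Set G), z⁻¹ = z := fun z =>
        inv_eq_of_mul_eq_one_right (Subtype.ext (by rw [Subgroup.coe_mul, ← pow_two]; exact hsq z z.2))
      calc a * b = (a * b)⁻¹ := (hi _).symm
        _ = b * a := by rw [mul_inv_rev, hi, hi]
  obtain ⟨K, iF, iK, hKT, hKeven, ⟨e⟩⟩ := hH.exists_pslTwo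
  obtain ⟨n, hn⟩ := T.2.exists_card_eq
  have hn2 : 2 ≤ n := by
    by_contra hlt
    have : (2 : ℕ) ^ n ≤ 2 ^ 1 := Nat.pow_le_pow_right two_pos (by omega)
    omega
  set N := Fintype.card K with hN
  have hq2 : N = 2 ^ n := hKT.trans hn
  have hgcd : Nat.gcd 2 (N - 1) = 1 := by
    refine (Nat.prime_two.coprime_iff_not_dvd).mpr ?_
    have : 2 ∣ N := hq2 ▸ dvd_pow_self 2 (by omega)
    omega
  have hpsl := Classical.SmallIso.natCard_pslTwo K
  rw [hgcd, one_mul] at hpsl
  haveI : Finite SL(2, K) := inferInstance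
  have hbij : Function.Bijective (QuotientGroup.mk' (Subgroup.center SL(2, K))) :=
    (Nat.bijective_iff_surjective_and_card _).mpr ⟨QuotientGroup.mk'_surjective _, hpsl.symm⟩
  let f : SL(2, K) ≃* G := (MulEquiv.ofBijective _ hbij).trans e.symm
  have hN4 : 4 ≤ N := by rw [hKT]; exact h4T
  -- the split torus
  obtain ⟨v, hv⟩ := IsCyclic.exists_generator (α := Kˣ)
  let D : Kˣ →* SL(2, K) :=
    { toFun := fun v => ⟨!![(v : K), 0; 0, ((v⁻¹ : Kˣ) : K)], by simp [Matrix.det_fin_two]⟩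
      map_one' := by
        refine Matrix.SpecialLinearGroup.ext _ _ fun i j => ?_
        fin_cases i <;> fin_cases j <;> simp
      map_mul' := fun a b => Subtype.ext (by
        show !![((a * b : Kˣ) : K), 0; 0, (((a * b)⁻¹ : Kˣ) : K)] =
          !![(a : K), 0; 0, ((a⁻¹ : Kˣ) : K)] * !![(b : K), 0; 0, ((b⁻¹ : Kˣ) : K)]
        ext i j
        fin_cases i <;> fin_cases j <;> simp [Matrix.mul_apply, Fin.sum_univ_two, mul_comm]) }
  have hD : Function.Injective D := by
    intro a b hab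
    have := congrFun (congrFun (congrArg (fun B : SL(2, K) => (B : Matrix (Fin 2) (Fin 2) K)) hab) 0) 0
    exact Units.ext this
  have hminus : orderOf (f (D v)) = N - 1 := by
    rw [MulEquiv.orderOf_eq, orderOf_injective D hD, orderOf_eq_card_of_forall_mem_zpowers hv,
      Nat.card_eq_fintype_card, Fintype.card_units]
  -- the non-split torus
  obtain ⟨A, hA⟩ := Classical.Torus.exists_irreducible K
  haveI : Fact (∀ x : K, x ^ 2 ≠ A + 1 * x) := ⟨hA⟩
  obtain ⟨z, hz⟩ := IsCyclic.exists_generator (α := Classical.Torus.normOne K A 1)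
  have hplus : orderOf (f (Classical.Torus.torusHom z)) = N + 1 := by
    rw [MulEquiv.orderOf_eq, orderOf_injective _ Classical.Torus.torusHom_injective,
      orderOf_eq_card_of_forall_mem_zpowers hz, Classical.Torus.natCard_normOne]
  have h2N : 2 ∣ N := hq2 ▸ dvd_pow_self 2 (by omega)
  have hd : ∀ d, 1 < d → (d ∣ 2 ^ n - 1 ∨ d ∣ 2 ^ n + 1) → d ∈ X := by
    intro d hd1 hdd
    rw [← hq2] at hdd
    have hspec : d ∈ spec G := by
      rcases hdd with hdd | hdd
      · exact dvd_mem_spec ⟨_, hminus⟩ hdd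
      · exact dvd_mem_spec ⟨_, hplus⟩ hdd
    obtain ⟨g, hg⟩ := hspec
    rcases hsub g (fun e => by rw [e, orderOf_one] at hg; omega) with h2 | h2
    · exfalso
      rw [hg] at h2
      subst h2
      rcases hdd with hdd | hdd <;> omega
    · exact hg ▸ h2
  rcases eq_four_or_eight hn2 X hX hd with h' | h' <;> rw [← hq2] at h'
  · left
    obtain ⟨φ, hφ⟩ := Classical.SmallIso.exists_pslTwo_hom K 5 (by omega)
    refine Classical.SmallIso.nonempty_mulEquiv_alternating (φ.comp e.toMonoidHom) (hφ.comp e.injective) ?_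
    rw [← Nat.card_congr f.toEquiv, Classical.GL2.natCard_SL_two, Fintype.card_fin,
      show Fintype.card K = 4 from h']
    rfl
  · right
    obtain ⟨F, iF', iFF, hF, ⟨e'⟩⟩ := S1230.result T hH.1 hH.2 hH.3
    refine ⟨F, iF', iFF, ?_, ⟨e'⟩⟩
    rw [hF, ← hKT]; exact h'

end Cfsg.Agent.GroupStructure3.FiveOrbits
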