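import Cfsg.Agent.GroupStructure3.FiveOrbits.TwoQ.Small
import Cfsg.Agent.GroupStructure3.FiveOrbits.TwoQ.BigCount
import Cfsg.Agent.S0204

/-!
# No simple group with spectrum `{1, 2, q, r, 2q}`, one orbit for each order
-/

set_option autoImplicit false

namespace Cfsg.Agent.GroupStructure3.FiveOrbits

universe u

theorem twoq_false {G : Type u} [Group G] [Finite G] [IsSimpleGroup G] (hG : ¬ IsMulCommutative G) {q r : ℕ}
    (h : Orders G q r (2 * q)) : False := by
  haveI : Fact (Nat.Prime 2) := ⟨Nat.prime_two⟩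
  have hns : ¬ Group.IsSolvable G := fun hs => hG ⟨⟨IsSimpleGroup.comm_iff_isSolvable.2 hs⟩⟩
  obtain ⟨E, hE⟩ := S0204.result (G := G) (fun hc => hG inferInstance)
  obtain ⟨S, hES⟩ := (IsPGroup.of_card (n := 2) hE.card_four : IsPGroup 2 E).exists_le_sylow
  have h4 : 4 ≤ Nat.card S := hE.card_four ▸ Subgroup.card_le_of_le hES
  by_cases hA : ∃ y : G, orderOf y = q ∧ ∀ s ∈ (S : Subgroup G), Commute s y
  · obtain ⟨y, hy, hyS⟩ := hA
    exact TwoQ.case_central h hns S h4 hy hyS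
  by_cases hB : ∃ t ∈ (S : Subgroup G), t ≠ 1 ∧
      ¬ Subgroup.centralizer ({t} : Set G) ≤ Subgroup.normalizer ((S : Subgroup G) : Set G)
  · obtain ⟨t, ht, ht1, hle⟩ := hB
    exact TwoQ.case_core h hns S h4 (fun y hy hyS => hA ⟨y, hy, hyS⟩) ht ht1 hle
  push Not at hA hB
  have hne : (S : Subgroup G) ≠ ⊥ := (Subgroup.one_lt_card_iff_ne_bot _).1 (by
    show 1 < Nat.card S
    omega)
  refine TwoQ.Big.false (q := q) (r := r) (S := S) ⟨h, ?_, hB, hne⟩ hns
  have hsq := TwoQ.sylow_sq h S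
  obtain ⟨t, ht, ht1⟩ := (Subgroup.bot_or_exists_ne_one _).resolve_left hne
  refine le_antisymm (fun x hx => ?_) fun x hx => Subgroup.mem_centralizer_iff.2 fun y hy =>
    (FiveOrders.commute_of_sq hsq hy hx).eq
  have hx' : ∀ s ∈ (S : Subgroup G), Commute s x := fun s hs => Subgroup.mem_centralizer_iff.1 hx s hs
  have hxx : x * x = 1 := by
    rcases TwoQ.centralizer_orders h (TwoQ.orderOf_of_mem h S ht ht1) (hx' t ht).symm with e | e | e | e
    · rw [orderOf_eq_one_iff.1 e, one_mul]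
    · rw [← pow_two, ← e]; exact pow_orderOf_eq_one x
    · obtain ⟨s, hs, hns'⟩ := hA x e
      exact absurd (hx' s hs) hns'
    · obtain ⟨s, hs, hns'⟩ := hA (x ^ 2) (TwoQ.pow_parts h e).2.1
      exact absurd ((hx' s hs).pow_right 2) hns'
  have hP : IsPGroup 2 ((S : Subgroup G) ⊔ Subgroup.zpowers x : Subgroup G) := by
    refine S.2.to_sup_of_normal_left' ?_ (Subgroup.zpowers_le.2 (Subgroup.centralizer_le_normalizer _ hx))
    exact fun z => ⟨1, Subtype.ext (by
      obtain ⟨m, hm⟩ := Subgroup.mem_zpowers_iff.1 z.2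
      show (z : G) ^ (2 ^ 1) = 1
      rw [← hm, pow_one, pow_two, ← (Commute.refl x).mul_zpow, hxx, one_zpow])⟩
  exact (S.3 hP le_sup_left).le (Subgroup.mem_sup_right (Subgroup.mem_zpowers x))

end Cfsg.Agent.GroupStructure3.FiveOrbits
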